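import Mathlib
import Cfsg.Prelude.Def_KGroupFacts

/-!
Adjusting an automorphism by an inner one at a self-centralizing element of prime order and an element
normalizing it, and the order two of the outer automorphism group that follows.
-/

set_option autoImplicit false

namespace CfsgLib.Spor.ActCert

open Cfsg

theorem exists_adjust {G : Type*} [Group G] [Finite G] {p r : ℕ} [Fact p.Prime] {x y : G} {S : List ℕ}
    (hx : orderOf x = p) (hfac : (Nat.card G).factorization p = 1)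
    (hyx : y * x * y⁻¹ = x ^ r) (hr : r % p ≠ 1) (hS : ∀ s ∈ S, s % p ≠ 0)
    (hdec : ∀ k < p, k ≠ 0 → ∃ i : ℕ, k * r ^ i % p ∈ S)
    (hcx : ∀ g : G, g * x = x * g → g ∈ Subgroup.zpowers x) (φ : MulAut G) :
    ∃ c : G, ∃ s ∈ S, (MulAut.conj c * φ) x = x ^ s ∧ (MulAut.conj c * φ) y = y := by
  have hxp : x ^ p = 1 := hx ▸ pow_orderOf_eq_one x
  have hpp := (Fact.out : p.Prime)
  have hpow : ∀ i : ℕ, y ^ i * x * (y ^ i)⁻¹ = x ^ (r ^ i) := by
    intro i
    induction i with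
    | zero => simp
    | succ i ih =>
      rw [pow_succ' y, show y * y ^ i * x * (y * y ^ i)⁻¹ = y * (y ^ i * x * (y ^ i)⁻¹) * y⁻¹ by group, ih,
        ← MulAut.conj_apply, map_pow, MulAut.conj_apply, hyx, ← pow_mul, pow_succ']
  obtain ⟨c, s, hs, hc⟩ : ∃ c : G, ∃ s ∈ S, c * φ x * c⁻¹ = x ^ s := by
    have hcard : Nat.card ↥(Subgroup.zpowers x) = p ^ (Nat.card G).factorization p := by
      rw [Nat.card_zpowers, hx, hfac, pow_one]
    have hcard' : Nat.card ↥(Subgroup.zpowers (φ x)) = p ^ (Nat.card G).factorization p := by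
      rw [Nat.card_zpowers, MulEquiv.orderOf_eq, hx, hfac, pow_one]
    obtain ⟨a, ha⟩ := MulAction.exists_smul_eq G (Sylow.ofCard _ hcard') (Sylow.ofCard _ hcard)
    have e := congrArg (fun S : Sylow p G => (S : Subgroup G)) ha
    simp only [Sylow.coe_subgroup_smul, Sylow.coe_ofCard] at e
    have hmem : a * φ x * a⁻¹ ∈ Subgroup.zpowers x := e ▸ ⟨φ x, Subgroup.mem_zpowers _, rfl⟩
    obtain ⟨k, hk, hk'⟩ : ∃ k < p, x ^ k = a * φ x * a⁻¹ := by
      obtain ⟨m, hm⟩ := (mem_powers_iff_mem_zpowers (x := x) (y := a * φ x * a⁻¹)).2 hmem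
      exact ⟨m % p, Nat.mod_lt _ hpp.pos, by rw [← pow_eq_pow_mod m hxp]; exact hm⟩
    have hk0 : k ≠ 0 := by
      rintro rfl
      rw [pow_zero, eq_comm, mul_inv_eq_one, mul_eq_left] at hk'
      rw [← φ.orderOf_eq, hk', orderOf_one] at hx
      exact hpp.ne_one hx.symm
    obtain ⟨i, hi⟩ := hdec k hk hk0
    refine ⟨y ^ i * a, _, hi, ?_⟩
    rw [show y ^ i * a * φ x * (y ^ i * a)⁻¹ = y ^ i * (a * φ x * a⁻¹) * (y ^ i)⁻¹ by group, ← hk',
      ← MulAut.conj_apply, map_pow, MulAut.conj_apply, hpow i, ← pow_mul, Nat.mul_comm, ← pow_eq_pow_mod _ hxp]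
  set ψ := MulAut.conj c * φ with hψ
  have hψx : ψ x = x ^ s := hc
  have hinvert : ∀ a : ℕ, a % p ≠ 0 → ∃ a' : ℕ, a * a' % p = 1 := fun a ha => by
    refine ⟨a ^ (p - 2), ?_⟩
    rw [← pow_succ', show p - 2 + 1 = p - 1 by have := hpp.two_le; omega]
    have := Nat.ModEq.pow_totient (x := a) (n := p)
      ((hpp.coprime_iff_not_dvd.2 fun hd => by rw [Nat.dvd_iff_mod_eq_zero] at hd; omega).symm)
    rwa [Nat.totient_prime hpp, Nat.ModEq, Nat.one_mod_eq_one.2 hpp.ne_one] at this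
  obtain ⟨s', hs'⟩ := hinvert s (hS s hs)
  have hxs : (x ^ s) ^ s' = x := by rw [← pow_mul, pow_eq_pow_mod _ hxp, hs', pow_one]
  have hψy : y⁻¹ * ψ y ∈ Subgroup.zpowers x := by
    refine hcx _ ?_
    have e : ψ y * x ^ s * (ψ y)⁻¹ = (x ^ s) ^ r := by rw [← hψx, ← map_inv, ← map_mul, ← map_mul, hyx, map_pow]
    have e1 : ψ y * x * (ψ y)⁻¹ = x ^ r := by
      conv_lhs => rw [← hxs]
      rw [← MulAut.conj_apply, map_pow, MulAut.conj_apply, e, ← pow_mul, mul_comm r, pow_mul, hxs]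
    calc y⁻¹ * ψ y * x = y⁻¹ * (ψ y * x * (ψ y)⁻¹) * ψ y := by group
      _ = y⁻¹ * (y * x * y⁻¹) * ψ y := by rw [e1, hyx]
      _ = x * (y⁻¹ * ψ y) := by group
  obtain ⟨k, hk⟩ := (mem_powers_iff_mem_zpowers (x := x) (y := y⁻¹ * ψ y)).2 hψy
  have hk' : ψ y = y * x ^ k := by
    show ψ y = y * (fun m : ℕ => x ^ m) k
    rw [show (fun m : ℕ => x ^ m) k = y⁻¹ * ψ y from hk, mul_inv_cancel_left]
  obtain ⟨m, hm⟩ : ∃ m : ℕ, x ^ m * ψ y * (x ^ m)⁻¹ = y := by
    obtain ⟨r', hr'⟩ := hinvert r fun h0 => by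
      have hx1 : x ^ r = 1 := by rw [pow_eq_pow_mod r hxp, h0, pow_zero]
      rw [hx1, conj_eq_one_iff] at hyx
      rw [hyx, orderOf_one] at hx
      exact hpp.ne_one hx.symm
    have hcomm : ∀ m : ℕ, x ^ m * y = y * x ^ (r' * m) := fun m => by
      have e : y * x ^ (r' * m) * y⁻¹ = x ^ m := by
        rw [← MulAut.conj_apply, map_pow, MulAut.conj_apply, hyx, ← pow_mul, ← mul_assoc, pow_eq_pow_mod _ hxp,
          Nat.mul_mod, hr', one_mul, Nat.mod_mod, ← pow_eq_pow_mod _ hxp]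
      rw [← e, inv_mul_cancel_right]
    have hr1 : r' % p ≠ 1 := fun h => hr (by
      rw [Nat.mul_mod, h, mul_one, Nat.mod_mod] at hr'
      exact hr')
    obtain ⟨m, hm⟩ : ∃ m : ℕ, (r' * m + k) % p = m % p := by
      refine ⟨((k : ZMod p) / (1 - (r' : ZMod p))).val, ?_⟩
      have hne : (1 - (r' : ZMod p)) ≠ 0 := by
        rw [sub_ne_zero]
        intro h
        apply hr1
        have := congrArg ZMod.val h.symm
        rwa [ZMod.val_natCast, ZMod.val_one] at this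
      refine (ZMod.natCast_eq_natCast_iff' _ _ p).1 ?_
      push_cast
      rw [ZMod.natCast_val, ZMod.cast_id]
      field_simp
      ring
    refine ⟨m, ?_⟩
    rw [hk', ← mul_assoc, hcomm, mul_assoc, mul_assoc, ← mul_assoc (x ^ (r' * m)), ← pow_add,
      pow_eq_pow_mod _ hxp, hm, ← pow_eq_pow_mod _ hxp, mul_inv_cancel, mul_one]
  refine ⟨x ^ m * c, s, hs, ?_, ?_⟩
  · rw [map_mul, mul_assoc, ← hψ, MulAut.mul_apply, hψx, MulAut.conj_apply,
      ((Commute.refl x).pow_pow m s).eq, mul_inv_cancel_right]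
  · rw [map_mul, mul_assoc, ← hψ]
    exact hm

theorem out_card_two {G : Type*} [Group G] [Finite G] {p r : ℕ} [Fact p.Prime] {x y : G} {S : List ℕ}
    (hx : orderOf x = p) (hfac : (Nat.card G).factorization p = 1)
    (hyx : y * x * y⁻¹ = x ^ r) (hr : r % p ≠ 1) (hS : ∀ s ∈ S, s % p ≠ 0)
    (hdec : ∀ k < p, k ≠ 0 → ∃ i : ℕ, k * r ^ i % p ∈ S)
    (hcx : ∀ g : G, g * x = x * g → g ∈ Subgroup.zpowers x) (σ : MulAut G)
    (hclass : ∀ θ : MulAut G, ∀ s ∈ S, θ x = x ^ s → θ y = y → θ = 1 ∨ θ = σ)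
    (hσ : σ ∉ Inn G) : Nat.card (Out G) = 2 := by
  have key : ∀ φ : MulAut G, φ ∈ Inn G ∨ φ * σ⁻¹ ∈ Inn G := fun φ => by
    obtain ⟨c, s, hs, h1, h2⟩ := exists_adjust hx hfac hyx hr hS hdec hcx φ
    have hφ : φ = (MulAut.conj c)⁻¹ * (MulAut.conj c * φ) := (inv_mul_cancel_left _ _).symm
    rcases hclass _ s hs h1 h2 with h | h
    · exact Or.inl (by rw [hφ, h, mul_one]; exact inv_mem ⟨c, rfl⟩)
    · exact Or.inr (by rw [hφ, h, mul_assoc, mul_inv_cancel, mul_one]; exact inv_mem ⟨c, rfl⟩)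
  change (Inn G).index = 2
  refine Subgroup.index_eq_two_iff.2 ⟨σ⁻¹, fun b => ?_⟩
  have hσ' : σ⁻¹ ∉ Inn G := fun h => hσ (inv_mem_iff.1 h)
  rcases key b with hb | hb
  · exact Or.inr ⟨hb, fun hc => hσ' ((Subgroup.mul_mem_cancel_left _ hb).1 hc)⟩
  · exact Or.inl ⟨hb, fun hc => hσ' ((Subgroup.mul_mem_cancel_left _ hc).1 hb)⟩

/-- Isomorphic groups have outer automorphism groups of the same order. -/
theorem out_card_congr {G H : Type*} [Group G] [Group H] (e : G ≃* H) :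
    Nat.card (Out G) = Nat.card (Out H) := by
  change (Inn G).index = (Inn H).index
  have hm : (Inn G).map (MulAut.congr e).toMonoidHom = Inn H := by
    rw [Inn, Inn, MonoidHom.map_range]
    have hc : (MulAut.congr e).toMonoidHom.comp MulAut.conj = MulAut.conj.comp e.toMonoidHom := by
      ext g x
      simp [MulAut.congr]
    rw [hc, MonoidHom.range_comp, MonoidHom.range_eq_top.2 e.surjective, ← MonoidHom.range_eq_map]
  rw [← hm]
  exact (Subgroup.index_map_equiv (H := Inn G) (MulAut.congr e)).symm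

end CfsgLib.Spor.ActCert
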