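import Cfsg.Agent.Lib.Spor.TC.Action
import Cfsg.Agent.Lib.Spor.PermCert.Basic

/-!
Exact orbits along a base for a tabulated action, with stabilizer generators given by words.
-/

set_option autoImplicit false

namespace CfsgLib.Spor.ActCert

open MulAction CfsgLib.Spor.TC CfsgLib.Spor.PermCert

/-- A level: a base point, words fixing the earlier base points, and a tree of its orbit. -/
structure WLevel where
  base : ℕ
  gens : List (List ℕ)
  size : ℕ
  pt : ℕ → ℕ
  parent : ℕ → ℕ
  gen : ℕ → ℕ
  rank : ℕ → ℕ

/-- A number is among the orbit points shown. -/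
noncomputable def WLevel.mem (L : WLevel) (v : ℕ) : Bool := Nat.blt (L.rank v) L.size && Nat.beq (L.pt (L.rank v)) v

variable (A : Act)

/-- The checks of one level. -/
noncomputable def levelOK (L : WLevel) (fixed : List ℕ) : Bool :=
  Nat.blt L.base A.n &&
    (L.gens.all fun w => (w.all fun a => Nat.blt a A.K) && fixed.all fun b => Nat.beq (A.wact w b) b) &&
    (allFrom (fun i => Nat.beq (L.rank (L.pt i)) i &&
      (Nat.beq i 0 && Nat.beq (L.pt i) L.base ||
        Nat.blt (L.parent i) i && Nat.blt (L.gen i) L.gens.length &&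
          Nat.beq (A.wact (L.gens.getD (L.gen i) []) (L.pt (L.parent i))) (L.pt i))) 0 L.size)

/-- The checks of all levels. -/
noncomputable def chainW : List ℕ → List WLevel → Bool
  | _, [] => true
  | fixed, L :: Ls => levelOK A L fixed && chainW (L.base :: fixed) Ls

/-- The product of the orbit sizes. -/
def chainProd (Ls : List WLevel) : ℕ := (Ls.map WLevel.size).prod

variable {A} {rels : List PowRel} [NeZero A.n]

theorem chain_count (h : A.Valid rels) : ∀ (Ls : List WLevel) (fixed : List ℕ), (∀ c ∈ fixed, c < A.n) →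
    chainW A fixed Ls = true →
      chainProd Ls * Nat.card ↥(fixSub h.rho.range ((Ls.map WLevel.base).reverse ++ fixed)) ≤
          Nat.card ↥(fixSub h.rho.range fixed) ∧
      (Nat.card ↥(fixSub h.rho.range fixed) ≤ chainProd Ls →
        ∀ l, (hl : l < Ls.length) → ∀ g ∈ fixSub h.rho.range (((Ls.take l).map WLevel.base).reverse ++ fixed),
          Ls[l].mem (g (pnt A.n Ls[l].base)).1 = true)
  | [], fixed, _, _ => by simp [chainProd]
  | L :: Ls, fixed, hf, hok => by
    simp only [chainW, Bool.and_eq_true] at hok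
    obtain ⟨hL, hrest⟩ := hok
    simp only [levelOK, Bool.and_eq_true, List.all_eq_true] at hL
    obtain ⟨⟨hbase, hgens⟩, hrows⟩ := hL
    have hb : L.base < A.n := Nat.le_of_ble_eq_true hbase
    obtain ⟨ih, ih'⟩ := chain_count h Ls (L.base :: fixed) (by simpa [hb] using hf) hrest
    have hgen : ∀ w ∈ L.gens, ev h.perm w ∈ fixSub h.rho.range fixed := fun w hw => by
      have hlt : ∀ a ∈ w, a < A.K := fun a ha => Nat.le_of_ble_eq_true ((hgens w hw).1 a ha)
      refine mem_fixSub.2 ⟨⟨ev (A.letters rels) w, ?_⟩, fun c hc => Fin.ext ?_⟩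
      · rw [map_ev]
        exact ev_congr fun a _ => h.rho_letters a
      · rw [h.wact_eq hlt, pnt_val (hf c hc)]
        exact Nat.eq_of_beq_eq_true ((hgens w hw).2 c hc)
    have hrow : ∀ i, i < L.size → L.rank (L.pt i) = i ∧ ∃ c : Fin A.n, (c : ℕ) = L.pt i ∧
        c ∈ orbit (fixSub h.rho.range fixed) (pnt A.n L.base) := by
      intro i
      induction i using Nat.strong_induction_on with
      | _ i ihi =>
        intro hi
        have h1 := allFrom_spec hrows i (Nat.zero_le i) (by omega)
        simp only [Bool.and_eq_true, Bool.or_eq_true] at h1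
        refine ⟨Nat.eq_of_beq_eq_true h1.1, ?_⟩
        rcases h1.2 with ⟨-, hb0⟩ | ⟨⟨hp, hg⟩, ht⟩
        · exact ⟨_, (pnt_val hb).trans (Nat.eq_of_beq_eq_true hb0).symm, mem_orbit_self _⟩
        · have hpi : L.parent i < i := Nat.le_of_ble_eq_true hp
          obtain ⟨-, c, hc, m, hm⟩ := ihi _ hpi (hpi.trans hi)
          have hgl : L.gen i < L.gens.length := Nat.le_of_ble_eq_true hg
          have hw : L.gens.getD (L.gen i) [] ∈ L.gens := by
            rw [List.getD_eq_getElem _ _ hgl]; exact List.getElem_mem hgl
          refine ⟨ev h.perm (L.gens.getD (L.gen i) []) c, ?_, ⟨⟨_, hgen _ hw⟩ * m, ?_⟩⟩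
          · rw [h.wact_eq (fun a ha => Nat.le_of_ble_eq_true ((hgens _ hw).1 a ha)), hc]
            exact Nat.eq_of_beq_eq_true ht
          · rw [← hm]
            exact mul_smul _ _ _
    choose hrank pts hpts horb using hrow
    let f : Fin L.size → ↥(orbit (fixSub h.rho.range fixed) (pnt A.n L.base)) := fun i => ⟨pts i i.2, horb i i.2⟩
    have hinj : Function.Injective f := fun i j e => by
      have h1 := congrArg (fun z : ↥(orbit (fixSub h.rho.range fixed) (pnt A.n L.base)) => L.rank (z.1 : ℕ)) e
      simp only [f, hpts, hrank i i.2, hrank j j.2] at h1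
      exact Fin.ext h1
    have hle : L.size ≤ Nat.card ↥(orbit (fixSub h.rho.range fixed) (pnt A.n L.base)) := by
      have := Nat.card_le_card_of_injective f hinj
      rwa [Nat.card_fin] at this
    have hos := card_fixSub_cons h.rho.range L.base fixed
    constructor
    · rw [hos, chainProd, List.map_cons, List.prod_cons, List.map_cons, List.reverse_cons, List.append_assoc,
        List.singleton_append, mul_assoc]
      exact Nat.mul_le_mul hle ih
    · intro htight l hl g hg
      rw [hos, chainProd, List.map_cons, List.prod_cons] at htight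
      have : Nonempty ↥(orbit (fixSub h.rho.range fixed) (pnt A.n L.base)) := ⟨⟨_, mem_orbit_self _⟩⟩
      have horbpos := Nat.card_pos (α := ↥(orbit (fixSub h.rho.range fixed) (pnt A.n L.base)))
      have hsubpos := Nat.card_pos (α := ↥(fixSub h.rho.range (L.base :: fixed)))
      have hc : chainProd Ls ≤ Nat.card ↥(fixSub h.rho.range (L.base :: fixed)) :=
        le_trans (Nat.le_mul_of_pos_right _ Nat.card_pos) ih
      have hpos : 0 < L.size * chainProd Ls := lt_of_lt_of_le (Nat.mul_pos horbpos hsubpos) htight
      have horbEq : Nat.card ↥(orbit (fixSub h.rho.range fixed) (pnt A.n L.base)) ≤ L.size :=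
        Nat.le_of_mul_le_mul_right (le_trans (Nat.mul_le_mul_left _ hc) htight) (Nat.pos_of_mul_pos_left hpos)
      cases l with
      | succ l =>
        simp only [List.take_succ_cons, List.map_cons, List.reverse_cons, List.append_assoc, List.singleton_append,
          List.getElem_cons_succ] at hg ⊢
        refine ih' (Nat.le_of_mul_le_mul_left (le_trans ?_ htight) (Nat.pos_of_mul_pos_right hpos)) l
          (by simpa using hl) g hg
        exact Nat.mul_le_mul_right _ hle
      | zero =>
        simp only [List.take_zero, List.map_nil, List.reverse_nil, List.nil_append, List.getElem_cons_zero] at hg ⊢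
        have hsurj : Function.Surjective f :=
          ((Nat.bijective_iff_injective_and_card f).2 ⟨hinj, by rw [Nat.card_fin]; exact le_antisymm hle horbEq⟩).2
        obtain ⟨i, hi⟩ := hsurj ⟨g (pnt A.n L.base), ⟨⟨g, hg⟩, rfl⟩⟩
        have e : (g (pnt A.n L.base)).1 = L.pt i := by
          have := congrArg (fun z : ↥(orbit (fixSub h.rho.range fixed) (pnt A.n L.base)) => (z.1 : ℕ)) hi
          simp only [f, hpts] at this
          exact this.symm
        simp only [WLevel.mem, e, hrank i i.2, Bool.and_eq_true]
        exact ⟨by simp [Nat.blt_eq, i.2], by simp [Nat.beq_eq]⟩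

/-- The element of a word. -/
def el (A : Act) (rels : List PowRel) (w : List ℕ) : Pres A.k rels := ev (A.letters rels) w

omit [NeZero A.n] in
theorem rho_el (h : A.Valid rels) {w : List ℕ} (hw : ∀ a ∈ w, a < A.K) (c : Fin A.n) :
    (h.rho (el A rels w) c : ℕ) = A.wact w c := by
  rw [el, map_ev, ev_congr fun a _ => h.rho_letters a]
  exact h.wact_eq hw c

/-- What is known about a chain: it is checked, and its product is the order of a faithful group. -/
structure Exact (h : A.Valid rels) (Ls : List WLevel) : Prop where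
  chain : chainW A [] Ls = true
  inj : Function.Injective h.rho
  card : Nat.card (Pres A.k rels) = chainProd Ls
  pos : 0 < chainProd Ls

theorem chain_base_lt : ∀ (Ls : List WLevel) (fixed : List ℕ), chainW A fixed Ls = true →
    ∀ L ∈ Ls, L.base < A.n
  | [], _, _, L, hL => absurd hL List.not_mem_nil
  | L0 :: Ls, fixed, hok, L, hL => by
    simp only [chainW, levelOK, Bool.and_eq_true] at hok
    rcases List.mem_cons.1 hL with rfl | hL
    · exact Nat.le_of_ble_eq_true hok.1.1.1
    · exact chain_base_lt Ls _ hok.2 L hL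

variable {h : A.Valid rels} {Ls : List WLevel}

omit [NeZero A.n] in
theorem Exact.card_range (hE : Exact h Ls) : Nat.card ↥h.rho.range = chainProd Ls := by
  rw [← Nat.card_congr (MonoidHom.ofInjective hE.inj).toEquiv, hE.card]

/-- The images of the base determine an element. -/
theorem Exact.eq_of_base (hE : Exact h Ls) {g g' : Pres A.k rels}
    (e : ∀ L ∈ Ls, h.rho g (pnt A.n L.base) = h.rho g' (pnt A.n L.base)) : g = g' := by
  refine hE.inj ?_
  have hc := (chain_count h Ls [] (by simp) hE.chain).1
  have e0 : fixSub h.rho.range [] = h.rho.range := by ext a; simp [mem_fixSub]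
  rw [e0, List.append_nil, hE.card_range] at hc
  have h1 : Nat.card ↥(fixSub h.rho.range (Ls.map WLevel.base).reverse) ≤ 1 :=
    Nat.le_of_mul_le_mul_left (by rwa [mul_one]) hE.pos
  have hbot := Subgroup.card_eq_one.1 (le_antisymm h1 Nat.card_pos)
  have hmem : (h.rho g')⁻¹ * h.rho g ∈ fixSub h.rho.range (Ls.map WLevel.base).reverse := by
    refine mem_fixSub.2 ⟨mul_mem (inv_mem ⟨g', rfl⟩) ⟨g, rfl⟩, fun c hc => ?_⟩
    rw [List.mem_reverse, List.mem_map] at hc
    obtain ⟨L, hL, rfl⟩ := hc
    rw [Equiv.Perm.mul_apply, e L hL, ← Equiv.Perm.mul_apply, inv_mul_cancel]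
    rfl
  rw [hbot, Subgroup.mem_bot, inv_mul_eq_one] at hmem
  exact hmem.symm

/-- An element fixing the earlier base points moves the next one inside the orbit shown. -/
theorem Exact.mem_orbit (hE : Exact h Ls) {l : ℕ} (hl : l < Ls.length) {g : Pres A.k rels}
    (hfix : ∀ i, (hi : i < l) → h.rho g (pnt A.n (Ls[i]'(hi.trans hl)).base) = pnt A.n (Ls[i]'(hi.trans hl)).base) :
    Ls[l].mem (h.rho g (pnt A.n Ls[l].base)).1 = true := by
  have e0 : fixSub h.rho.range [] = h.rho.range := by ext a; simp [mem_fixSub]
  refine (chain_count h Ls [] (by simp) hE.chain).2 (by rw [e0, hE.card_range]) l hl _ ?_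
  refine mem_fixSub.2 ⟨⟨g, rfl⟩, fun c hc => ?_⟩
  rw [List.append_nil, List.mem_reverse, List.mem_map] at hc
  obtain ⟨L, hL, rfl⟩ := hc
  obtain ⟨i, hi, rfl⟩ := List.mem_take_iff_getElem.1 hL
  exact hfix i (by omega)

end CfsgLib.Spor.ActCert
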