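import Cfsg.Agent.Lib.Spor.ActCert.Search
import Cfsg.Agent.Lib.Spor.TC.Steps
import Cfsg.Agent.Lib.Spor.ActCert.Adjust

/-!
The outer automorphism group has order two once tabulated certificates hold.
-/

set_option autoImplicit false

namespace CfsgLib.Spor.ActCert

open Cfsg CfsgLib.Spor.TC CfsgLib.Spor.PermCert

/-- The named words and tables. -/
structure OutData where
  p : ℕ
  r : ℕ
  d : ℕ
  xw : List ℕ
  yw : List ℕ
  ww : List ℕ
  S : List ℕ
  /-- The words of the relations: exponents of the first element and a power. -/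
  forms : List (List ℕ × ℕ)
  /-- Each generator as a word in the pair, zero for the first and one for the second. -/
  gens : List (List ℕ)
  /-- The exponent and the word of the images under the outer automorphism. -/
  s2 : ℕ
  w2 : List ℕ
  /-- Each generator as a word in those images. -/
  gens2 : List (List ℕ)
  /-- A word for the image of each generator under the outer automorphism. -/
  sigma : List (List ℕ)

variable (D : OutData)

/-- The powers of the first element. -/
def OutData.xpows : List (List ℕ) := (List.range D.p).map (powWord D.xw)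

/-- A word in a pair. -/
def pairWord (X W : List ℕ) (g : List ℕ) : List ℕ := (g.map fun b => if b = 0 then X else W).flatten

/-- A word with each letter replaced. -/
def subst (ws : List (List ℕ)) (w : List ℕ) : List ℕ := (w.map fun a => ws.getD a []).flatten

/-- The word of a relation. -/
def relWord (X W : List ℕ) (f : List ℕ × ℕ) : List ℕ :=
  powWord ((f.1.map fun a => powWord X a ++ W).flatten) f.2

/-- The checks on the named elements. -/
noncomputable def OutData.eltsOK (A : Act) (rels : List PowRel) (Ls : List WLevel) : Bool :=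
  sameW A Ls (powWord D.xw D.p) [] && movesW A Ls D.xw &&
    sameW A Ls (D.yw ++ D.xw) (powWord D.xw D.r ++ D.yw) && sameW A Ls (D.ww ++ D.ww) [] && movesW A Ls D.ww &&
    sameW A Ls (powWord D.yw D.d ++ D.ww) (D.ww ++ powWord D.yw D.d) &&
    (D.forms.all fun f => sameW A Ls (relWord D.xw D.ww f) []) &&
    Nat.beq D.sigma.length A.k &&
    ((List.range A.k).all fun a => sameW A Ls (pairWord D.xw D.ww (D.gens.getD a [])) [a]) &&
    ((List.range A.k).all fun a => sameW A Ls (D.sigma.getD a [] ++ D.sigma.getD a []) []) &&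
    (rels.all fun q => sameW A Ls (powWord (subst D.sigma q.1) q.2) []) &&
    ([D.xw, D.yw, D.ww].all fun w => w.all fun a => Nat.blt a A.k) &&
    sameW A Ls (subst D.sigma D.xw) (powWord D.xw D.s2) && sameW A Ls (subst D.sigma D.yw) D.yw &&
    sameW A Ls (subst D.sigma D.ww) D.w2 &&
    ((List.range A.k).all fun a => sameW A Ls (pairWord (powWord D.xw D.s2) D.w2 (D.gens2.getD a [])) [a])

/-- The checks on the centralizer of the power of the normalizing element. -/
noncomputable def OutData.candsOK (A : Act) (Ls : List WLevel) (allowed : List (List ℕ)) : Bool :=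
  allowed.all fun a =>
    (D.S.all fun s => movesW A Ls (a ++ a) || sameW A Ls a [] || (Nat.beq s 1 && sameW A Ls a D.ww) ||
      (Nat.beq s D.s2 && sameW A Ls a D.w2) || D.forms.any fun f => movesW A Ls (relWord (powWord D.xw s) a f)) &&
    (diffW A Ls (a ++ D.xw) (powWord D.xw D.s2 ++ a) ||
      diffW A Ls (a ++ D.ww) (D.w2 ++ a) || diffW A Ls (a ++ D.yw) (D.yw ++ a))

variable {A : Act} {rels : List PowRel} [NeZero A.n] {h : A.Valid rels} {Ls : List WLevel}

omit [NeZero A.n] in
theorem el_pow (w : List ℕ) (m : ℕ) : el A rels (powWord w m) = el A rels w ^ m := ev_powWord _ w m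

omit [NeZero A.n] in
theorem el_flatten (l : List (List ℕ)) : el A rels l.flatten = (l.map (el A rels)).prod := by
  induction l with
  | nil => simp [el_nil]
  | cons a l ih => rw [List.flatten_cons, el_append, ih, List.map_cons, List.prod_cons]

omit [NeZero A.n] in
theorem el_basic {w : List ℕ} (hw : ∀ a ∈ w, a < A.k) : el A rels w = ev (presGen A.k rels) w :=
  ev_congr fun a ha => Act.letters_of_lt (hw a ha)

theorem sameW_lt {a b : List ℕ} (e : sameW A Ls a b = true) : (∀ x ∈ a, x < A.K) ∧ ∀ x ∈ b, x < A.K := by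
  simp only [sameW, Bool.and_eq_true, List.all_eq_true] at e
  exact ⟨fun x hx => Nat.le_of_ble_eq_true (e.1.1 x hx), fun x hx => Nat.le_of_ble_eq_true (e.1.2 x hx)⟩

theorem out_two (hE : Exact h Ls) [hp : Fact D.p.Prime] (hfac : (Nat.card (Pres A.k rels)).factorization D.p = 1)
    (hr : D.r % D.p ≠ 1) (hS : ∀ s ∈ D.S, s % D.p ≠ 0)
    (hdec : ∀ k < D.p, k ≠ 0 → ∃ i : ℕ, k * D.r ^ i % D.p ∈ D.S)
    (helts : D.eltsOK A rels Ls = true)
    {LX : List WLevel} (hX : Exact h LX) {fxX : List ℕ} {msX : List Mode} {kidsX : List Branch}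
    (hmX : modesOK A D.xw fxX LX msX = true)
    (hokX : searchOK A D.xw fxX D.xpows LX msX [] [] [] kidsX = true)
    {LZ : List WLevel} (hZ : Exact h LZ) {fxZ : List ℕ} {msZ : List Mode} {kidsZ : List Branch}
    {allowed : List (List ℕ)} (hmZ : modesOK A (powWord D.yw D.d) fxZ LZ msZ = true)
    (hokZ : searchOK A (powWord D.yw D.d) fxZ allowed LZ msZ [] [] [] kidsZ = true)
    (hc : D.candsOK A Ls allowed = true) :
    Nat.card (Out (Pres A.k rels)) = 2 := by
  have : Finite (Pres A.k rels) := Nat.finite_of_card_ne_zero (by rw [hE.card]; exact hE.pos.ne')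
  simp only [OutData.eltsOK, Bool.and_eq_true, List.all_eq_true, List.mem_range, List.mem_cons, List.not_mem_nil,
    or_false, forall_eq_or_imp, forall_eq] at helts
  obtain ⟨⟨⟨⟨⟨⟨⟨⟨⟨⟨⟨⟨⟨⟨⟨hxp, hxne⟩, hyx⟩, hw2⟩, hwne⟩, hzw⟩, hforms⟩, hlen⟩, hgens⟩, hsq⟩, hrels⟩,
    hbx, hby, hbw⟩, hsx⟩, hsy⟩, hsw⟩, hback⟩ := helts
  have hbx' : ∀ a ∈ D.xw, a < A.k := fun a ha => Nat.le_of_ble_eq_true (hbx a ha)
  have hby' : ∀ a ∈ D.yw, a < A.k := fun a ha => Nat.le_of_ble_eq_true (hby a ha)
  have hbw' : ∀ a ∈ D.ww, a < A.k := fun a ha => Nat.le_of_ble_eq_true (hbw a ha)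
  set x := el A rels D.xw with hx
  set y := el A rels D.yw with hy
  set w := el A rels D.ww with hw
  have hox : orderOf x = D.p := by
    refine orderOf_eq_prime ?_ (el_ne_one hE hxne)
    rw [hx, ← el_pow, el_eq hE hxp, el_nil]
  have hyx' : y * x * y⁻¹ = x ^ D.r := by
    have e := el_eq (rels := rels) (h := h) hE hyx
    rw [el_append, el_append, el_pow] at e
    rw [mul_inv_eq_iff_eq_mul, hy, hx, e]
  have hcx : ∀ g, g * x = x * g → g ∈ Subgroup.zpowers x := fun g hg => by
    obtain ⟨a, ha, rfl⟩ := centralizer_mem hX hmX hokX hg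
    simp only [OutData.xpows, List.mem_map] at ha
    obtain ⟨i, -, rfl⟩ := ha
    rw [el_pow]
    exact ⟨(i : ℤ), by simp [x]⟩
  have hclosure : Subgroup.closure ({x, w} : Set (Pres A.k rels)) = ⊤ := by
    rw [eq_top_iff, ← closure_presGen A.k rels, Subgroup.closure_le]
    rintro _ ⟨a, ha, rfl⟩
    · replace ha : a < A.k := ha
      have e := el_eq (rels := rels) (h := h) hE (hgens a ha)
      rw [el_basic (w := [a]) (by simpa using ha), pairWord, el_flatten] at e
      simp only [ev, List.map_cons, List.map_nil, List.prod_cons, List.prod_nil, mul_one] at e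
      rw [SetLike.mem_coe, ← e]
      refine list_prod_mem fun g hg => ?_
      simp only [List.mem_map] at hg
      obtain ⟨_, ⟨b, -, rfl⟩, rfl⟩ := hg
      split_ifs
      · exact Subgroup.subset_closure (Or.inl rfl)
      · exact Subgroup.subset_closure (Or.inr rfl)
  -- the outer automorphism
  have hlen' : D.sigma.length = A.k := Nat.eq_of_beq_eq_true hlen
  let gσ : ℕ → Pres A.k rels := fun a => el A rels (D.sigma.getD a [])
  have hsub : ∀ v : List ℕ, ev gσ v = el A rels (subst D.sigma v) := fun v => by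
    rw [subst, el_flatten, List.map_map]
    rfl
  have hsat : Sat A.k rels gσ := by
    refine ⟨fun a => ?_, fun a ha => ?_, fun q hq => ?_⟩
    · by_cases ha : a < A.k
      · show el A rels (D.sigma.getD a []) * el A rels (D.sigma.getD a []) = 1
        rw [← el_append, el_eq hE (hsq a ha), el_nil]
      · show el A rels (D.sigma.getD a []) * el A rels (D.sigma.getD a []) = 1
        rw [List.getD_eq_default _ _ (by omega), el_nil, mul_one]
    · show el A rels (D.sigma.getD a []) = 1
      rw [List.getD_eq_default _ _ (by omega), el_nil]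
    · rw [hsub, ← el_pow, el_eq hE (hrels q hq), el_nil]
  let f := presHom hsat
  have hf : ∀ {v : List ℕ}, (∀ a ∈ v, a < A.k) → f (el A rels v) = el A rels (subst D.sigma v) := fun {v} hv => by
    rw [el_basic hv, map_ev, ← hsub]
    exact ev_congr fun a _ => presHom_gen hsat a
  have hfx : f x = x ^ D.s2 := by rw [hx, hf hbx', el_eq hE hsx, el_pow]
  have hfy : f y = y := by rw [hy, hf hby', el_eq hE hsy]
  have hfw : f w = el A rels D.w2 := by rw [hw, hf hbw', el_eq hE hsw]
  have hz : ∀ {g : Pres A.k rels}, g * y = y * g →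
      g * el A rels (powWord D.yw D.d) = el A rels (powWord D.yw D.d) * g := fun {g} hg => by
    rw [el_pow]
    exact (Commute.pow_right hg D.d).eq
  simp only [OutData.candsOK, List.all_eq_true, Bool.and_eq_true, Bool.or_eq_true, List.any_eq_true,
    Bool.not_eq_true'] at hc
  have hzw' : el A rels (powWord D.yw D.d) * w = w * el A rels (powWord D.yw D.d) := by
    rw [hw, ← el_append, ← el_append, el_eq hE hzw]
  -- the candidates for the images
  have hcases : ∀ (θ : Pres A.k rels →* Pres A.k rels), Function.Injective θ → ∀ s ∈ D.S, θ x = x ^ s → θ y = y →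
      (θ x = x ∧ θ w = w) ∨ (θ x = x ^ D.s2 ∧ θ w = el A rels D.w2) := by
    intro θ hθ s hs h1 h2
    have hcm : θ w * el A rels (powWord D.yw D.d) = el A rels (powWord D.yw D.d) * θ w := by
      have e2 : θ (el A rels (powWord D.yw D.d)) = el A rels (powWord D.yw D.d) := by
        rw [el_pow, map_pow, ← hy, h2]
      rw [← e2, ← map_mul, ← map_mul, hzw']
    obtain ⟨a, ha, he⟩ := centralizer_mem hZ hmZ hokZ hcm
    rcases (hc a ha).1 s hs with (((h3 | h3) | ⟨hs1, h3⟩) | ⟨hs2, h3⟩) | ⟨fm, hfm, h3⟩
    · refine absurd ?_ (el_ne_one hE h3 (rels := rels) (h := h))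
      rw [el_append, ← he, ← map_mul, hw, ← el_append, el_eq hE hw2, el_nil, map_one]
    · rw [el_eq hE h3, el_nil] at he
      exact absurd (hθ (he.trans (map_one θ).symm)) (el_ne_one hE hwne)
    · rw [Nat.eq_of_beq_eq_true hs1, pow_one] at h1
      exact Or.inl ⟨h1, by rw [he, el_eq hE h3]⟩
    · rw [Nat.eq_of_beq_eq_true hs2] at h1
      exact Or.inr ⟨h1, by rw [he, el_eq hE h3]⟩
    · refine absurd ?_ (el_ne_one hE h3 (rels := rels) (h := h))
      have e1 := congrArg θ (el_eq (rels := rels) (h := h) hE (hforms fm hfm))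
      rw [relWord, el_pow, el_nil, map_one, el_flatten, map_pow, map_list_prod, List.map_map, List.map_map] at e1
      rw [relWord, el_pow, el_flatten, List.map_map]
      refine Eq.trans ?_ e1
      congr 2
      refine List.map_congr_left fun b _ => ?_
      simp only [Function.comp_apply, el_append, el_pow, map_mul, map_pow]
      rw [← hx, ← hw, h1, he]
  have hsurj : Function.Surjective f := by
    rw [← MonoidHom.range_eq_top, eq_top_iff, ← closure_presGen A.k rels, Subgroup.closure_le]
    rintro _ ⟨a, ha, rfl⟩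
    · replace ha : a < A.k := ha
      have e := el_eq (rels := rels) (h := h) hE (hback a ha)
      rw [el_basic (w := [a]) (by simpa using ha), pairWord, el_flatten] at e
      simp only [ev, List.map_cons, List.map_nil, List.prod_cons, List.prod_nil, mul_one] at e
      rw [SetLike.mem_coe, ← e]
      refine list_prod_mem fun g hg => ?_
      simp only [List.mem_map] at hg
      obtain ⟨_, ⟨b, -, rfl⟩, rfl⟩ := hg
      split_ifs
      · exact ⟨x, by rw [hfx, el_pow]⟩
      · exact ⟨w, hfw⟩
  have hbij : Function.Bijective f := ⟨(Finite.injective_iff_surjective).2 hsurj, hsurj⟩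
  let σ : MulAut (Pres A.k rels) := MulEquiv.ofBijective f hbij
  have hσx : σ x = x ^ D.s2 := hfx
  have hσy : σ y = y := hfy
  have hσw : σ w = el A rels D.w2 := hfw
  have hext : ∀ θ₁ θ₂ : MulAut (Pres A.k rels), θ₁ x = θ₂ x → θ₁ w = θ₂ w → θ₁ = θ₂ := fun θ₁ θ₂ e1 e2 => by
    have := MonoidHom.eq_of_eqOn_dense hclosure (f := θ₁.toMonoidHom) (g := θ₂.toMonoidHom) (by
      rintro g (rfl | rfl)
      exacts [e1, e2])
    exact MulEquiv.ext fun g => DFunLike.congr_fun this g
  refine out_card_two hox hfac hyx' hr hS hdec hcx σ (fun θ s hs h1 h2 => ?_) ?_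
  · rcases hcases θ.toMonoidHom θ.injective s hs h1 h2 with ⟨a1, a2⟩ | ⟨a1, a2⟩
    · exact Or.inl (hext θ 1 a1 a2)
    · exact Or.inr (hext θ σ (a1.trans hσx.symm) (a2.trans hσw.symm))
  · rintro ⟨g, hg⟩
    have hconj : ∀ u, g * u = σ u * g := fun u => by
      rw [← hg, MulAut.conj_apply, inv_mul_cancel_right]
    obtain ⟨a, ha, rfl⟩ := centralizer_mem hZ hmZ hokZ (hz (g := g) (by rw [hconj, hσy]))
    rcases (hc a ha).2 with (h3 | h3) | h3
    · exact absurd (by rw [el_append, el_append, el_pow, hconj, hσx]) (el_ne (rels := rels) (h := h) hE h3)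
    · exact absurd (by rw [el_append, el_append, hconj, hσw]) (el_ne (rels := rels) (h := h) hE h3)
    · exact absurd (by rw [el_append, el_append, hconj, hσy]) (el_ne (rels := rels) (h := h) hE h3)

end CfsgLib.Spor.ActCert
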