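import Cfsg.Agent.Lib.Spor.ActCert.Out

/-!
The outer automorphism group is trivial once tabulated certificates show that every adjusted automorphism fixes
two named generators.
-/

set_option autoImplicit false

namespace CfsgLib.Spor.ActCert

open Cfsg CfsgLib.Spor.TC CfsgLib.Spor.PermCert

/-- The named words: an element of prime order, an element normalizing it, an involution commuting with the latter. -/
structure OneData where
  p : ℕ
  r : ℕ
  xw : List ℕ
  yw : List ℕ
  ww : List ℕ
  S : List ℕ
  /-- The words of the relations: exponents of the first element and a power. -/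
  forms : List (List ℕ × ℕ)
  /-- Each generator as a word in the pair, zero for the first and one for the second. -/
  gens : List (List ℕ)

variable (D : OneData)

/-- The powers of the first element. -/
def OneData.xpows : List (List ℕ) := (List.range D.p).map (powWord D.xw)

/-- The checks on the named elements. -/
noncomputable def OneData.eltsOK (A : Act) (Ls : List WLevel) : Bool :=
  sameW A Ls (powWord D.xw D.p) [] && movesW A Ls D.xw &&
    sameW A Ls (D.yw ++ D.xw) (powWord D.xw D.r ++ D.yw) && sameW A Ls (D.ww ++ D.ww) [] && movesW A Ls D.ww &&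
    sameW A Ls (D.yw ++ D.ww) (D.ww ++ D.yw) &&
    (D.forms.all fun f => sameW A Ls (relWord D.xw D.ww f) []) &&
    ((List.range A.k).all fun a => sameW A Ls (pairWord D.xw D.ww (D.gens.getD a [])) [a])

/-- The checks on the centralizer of the normalizing element. -/
noncomputable def OneData.candsOK (A : Act) (Ls : List WLevel) (allowed : List (List ℕ)) : Bool :=
  allowed.all fun a => D.S.all fun s => movesW A Ls (a ++ a) || sameW A Ls a [] ||
    (Nat.beq s 1 && sameW A Ls a D.ww) || D.forms.any fun f => movesW A Ls (relWord (powWord D.xw s) a f)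

variable {A : Act} {rels : List PowRel} [NeZero A.n] {h : A.Valid rels} {Ls : List WLevel}

theorem out_one (hE : Exact h Ls) [hp : Fact D.p.Prime] (hfac : (Nat.card (Pres A.k rels)).factorization D.p = 1)
    (hr : D.r % D.p ≠ 1) (hS : ∀ s ∈ D.S, s % D.p ≠ 0)
    (hdec : ∀ k < D.p, k ≠ 0 → ∃ i : ℕ, k * D.r ^ i % D.p ∈ D.S)
    (helts : D.eltsOK A Ls = true)
    {LX : List WLevel} (hX : Exact h LX) {fxX : List ℕ} {msX : List Mode} {kidsX : List Branch}
    (hmX : modesOK A D.xw fxX LX msX = true)
    (hokX : searchOK A D.xw fxX D.xpows LX msX [] [] [] kidsX = true)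
    {LY : List WLevel} (hY : Exact h LY) {fxY : List ℕ} {msY : List Mode} {kidsY : List Branch}
    {allowed : List (List ℕ)} (hmY : modesOK A D.yw fxY LY msY = true)
    (hokY : searchOK A D.yw fxY allowed LY msY [] [] [] kidsY = true)
    (hc : D.candsOK A Ls allowed = true) :
    Nat.card (Out (Pres A.k rels)) = 1 := by
  have : Finite (Pres A.k rels) := Nat.finite_of_card_ne_zero (by rw [hE.card]; exact hE.pos.ne')
  simp only [OneData.eltsOK, Bool.and_eq_true, List.all_eq_true, List.mem_range] at helts
  obtain ⟨⟨⟨⟨⟨⟨⟨hxp, hxne⟩, hyx⟩, hw2⟩, hwne⟩, hyw⟩, hforms⟩, hgens⟩ := helts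
  set x := el A rels D.xw with hx
  set y := el A rels D.yw with hy
  set w := el A rels D.ww with hw
  have hox : orderOf x = D.p := by
    refine orderOf_eq_prime ?_ (el_ne_one hE hxne)
    rw [hx, ← el_pow, el_eq hE hxp, el_nil]
  have hyx' : y * x * y⁻¹ = x ^ D.r := by
    have e := el_eq (rels := rels) (h := h) hE hyx
    rw [el_append, el_append, el_pow] at e
    rw [mul_inv_eq_iff_eq_mul, hy, hx, e]
  have hcx : ∀ g, g * x = x * g → g ∈ Subgroup.zpowers x := fun g hg => by
    obtain ⟨a, ha, rfl⟩ := centralizer_mem hX hmX hokX hg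
    simp only [OneData.xpows, List.mem_map] at ha
    obtain ⟨i, -, rfl⟩ := ha
    rw [el_pow]
    exact ⟨(i : ℤ), by simp [x]⟩
  have hclosure : Subgroup.closure ({x, w} : Set (Pres A.k rels)) = ⊤ := by
    rw [eq_top_iff, ← closure_presGen A.k rels, Subgroup.closure_le]
    rintro _ ⟨a, ha, rfl⟩
    · replace ha : a < A.k := ha
      have e := el_eq (rels := rels) (h := h) hE (hgens a ha)
      rw [el_basic (w := [a]) (by simpa using ha), pairWord, el_flatten] at e
      simp only [ev, List.map_cons, List.map_nil, List.prod_cons, List.prod_nil, mul_one] at e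
      rw [SetLike.mem_coe, ← e]
      refine list_prod_mem fun g hg => ?_
      simp only [List.mem_map] at hg
      obtain ⟨_, ⟨b, -, rfl⟩, rfl⟩ := hg
      split_ifs
      · exact Subgroup.subset_closure (Or.inl rfl)
      · exact Subgroup.subset_closure (Or.inr rfl)
  simp only [OneData.candsOK, List.all_eq_true, Bool.and_eq_true, Bool.or_eq_true, List.any_eq_true] at hc
  change (Inn (Pres A.k rels)).index = 1
  refine Subgroup.index_eq_one.2 (eq_top_iff.2 fun φ _ => ?_)
  obtain ⟨c, s, hs, h1, h2⟩ := exists_adjust hox hfac hyx' hr hS hdec hcx φ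
  set θ := MulAut.conj c * φ with hθ
  have hcm : θ w * y = y * θ w := by
    conv_lhs => rw [← h2]
    conv_rhs => rw [← h2]
    rw [← map_mul, ← map_mul, hy, hw, ← el_append, ← el_append, el_eq hE hyw]
  obtain ⟨a, ha, he⟩ := centralizer_mem hY hmY hokY hcm
  suffices hfix : θ x = x ∧ θ w = w by
    have hone : θ = 1 := by
      have := MonoidHom.eq_of_eqOn_dense hclosure (f := θ.toMonoidHom) (g := MonoidHom.id _) (by
        rintro g (rfl | rfl)
        exacts [hfix.1, hfix.2])
      exact MulEquiv.ext fun g => DFunLike.congr_fun this g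
    rw [show φ = (MulAut.conj c)⁻¹ * θ from (inv_mul_cancel_left _ _).symm, hone, mul_one]
    exact inv_mem ⟨c, rfl⟩
  rcases hc a ha s hs with ((h3 | h3) | ⟨hs1, h3⟩) | ⟨fm, hfm, h3⟩
  · refine absurd ?_ (el_ne_one hE h3 (rels := rels) (h := h))
    rw [el_append, ← he, ← map_mul, hw, ← el_append, el_eq hE hw2, el_nil, map_one]
  · rw [el_eq hE h3, el_nil] at he
    exact absurd (θ.injective (he.trans (map_one θ).symm)) (el_ne_one hE hwne)
  · rw [Nat.eq_of_beq_eq_true hs1, pow_one] at h1
    exact ⟨h1, by rw [he, el_eq hE h3]⟩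
  · refine absurd ?_ (el_ne_one hE h3 (rels := rels) (h := h))
    have e1 := congrArg θ (el_eq (rels := rels) (h := h) hE (hforms fm hfm))
    rw [relWord, el_pow, el_nil, map_one, el_flatten, map_pow, map_list_prod, List.map_map, List.map_map] at e1
    rw [relWord, el_pow, el_flatten, List.map_map]
    refine Eq.trans ?_ e1
    congr 2
    refine List.map_congr_left fun b _ => ?_
    simp only [Function.comp_apply, el_append, el_pow, map_mul, map_pow]
    rw [← hx, ← hw, h1, he]

end CfsgLib.Spor.ActCert
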