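import Cfsg.Agent.Lib.Spor.ActCert.Chain

/-!
A checked search for the elements commuting with a given one, along a base with exact orbits.
-/

set_option autoImplicit false

namespace CfsgLib.Spor.ActCert

open CfsgLib.Spor.TC CfsgLib.Spor.PermCert

/-- What restricts the image of a base point. -/
inductive Mode where
  /-- It follows from the image of an earlier base point. -/
  | det (i e : ℕ) : Mode
  /-- It is one of the fixed points. -/
  | fixd : Mode
  /-- Nothing beyond the orbit. -/
  | free : Mode

mutual

/-- The outcome for one image. -/
inductive Branch where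
  /-- All images are known: one of the allowed elements. -/
  | done (a : ℕ) : Branch
  /-- The preimage of the image is outside the orbit. -/
  | out (v : ℕ) : Branch
  /-- A further word reaches the image, and then each next image is treated. -/
  | go (t : List ℕ) (kids : Kids) : Branch
  /-- All images are known, and the element with them does not commute: the witness is a base point. -/
  | bad (t : List ℕ) (b : ℕ) : Branch

/-- Outcomes in order. -/
inductive Kids where
  /-- No outcome. -/
  | nil : Kids
  /-- One more. -/
  | cons (head : Branch) (tail : Kids) : Kids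

end

/-- Outcomes as a list. -/
noncomputable def Kids.list : Kids → List Branch
  | .nil => []
  | .cons b k => b :: k.list

/-- A list as outcomes. -/
def Kids.of : List Branch → Kids
  | [] => .nil
  | b :: l => .cons b (Kids.of l)

/-- A branch with its outcomes listed. -/
def Branch.sub (t : List ℕ) (l : List Branch) : Branch := .go t (Kids.of l)

variable (A : Act)

/-- Iterates of a word on numbers. -/
noncomputable def wit (z : List ℕ) : ℕ → ℕ → ℕ
  | 0, c => c
  | e + 1, c => A.wact z (wit z e c)

/-- The listed possible images. -/
noncomputable def targets (z : List ℕ) (fx : List ℕ) (imgs : List ℕ) (L : WLevel) (u : List ℕ) : Mode → List ℕ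
  | .det i e => [wit A z e (imgs.getD i 0)]
  | .fixd => fx
  | .free => (List.range L.size).map fun j => A.wact u (L.pt j)

/-- The checks on the modes: they describe the base, and the fixed points are listed. -/
noncomputable def modesOK (z fx : List ℕ) (Ls : List WLevel) (ms : List Mode) : Bool :=
  (z.all fun a => Nat.blt a A.K) &&
  (List.range ms.length).all fun l =>
    match ms.getD l .free with
    | .det i e => Nat.blt i l && Nat.beq (wit A z e ((Ls.map WLevel.base).getD i 0)) ((Ls.map WLevel.base).getD l 0)
    | .fixd => Nat.beq (A.wact z ((Ls.map WLevel.base).getD l 0)) ((Ls.map WLevel.base).getD l 0) &&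
        (List.range A.n).all fun c => !Nat.beq (A.wact z c) c || fx.contains c
    | .free => true

/-- A test on two lists entry by entry, which also compares their lengths. -/
def zipAll {α β : Type} (f : α → β → Bool) : List α → List β → Bool
  | a :: as, b :: bs => f a b && zipAll f as bs
  | [], [] => true
  | _, _ => false

theorem zipAll_spec {α β : Type} {f : α → β → Bool} : ∀ {as : List α} {bs : List β}, zipAll f as bs = true →
    ∀ a ∈ as, ∃ b, f a b = true
  | [], _, _, a, ha => absurd ha List.not_mem_nil
  | _ :: _, [], h, _, _ => by simp [zipAll] at h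
  | a0 :: as, b :: bs, h, a, ha => by
    simp only [zipAll, Bool.and_eq_true] at h
    rcases List.mem_cons.1 ha with rfl | ha
    · exact ⟨b, h.1⟩
    · exact zipAll_spec h.2 a ha

/-- The check of a search: level by level, every possible image is covered. `bs` are the base points so far. -/
noncomputable def searchOK (z fx : List ℕ) (allowed : List (List ℕ)) :
    List WLevel → List Mode → List ℕ → List ℕ → List ℕ → List Branch → Bool
  | L :: Ls, m :: ms, bs, imgs, u, kids =>
    (targets A z fx imgs L u m).length == kids.length && zipAll (fun c B =>
      match B with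
      | .out v => Nat.blt v A.n && Nat.beq (A.wact u v) c && !L.mem v
      | .done a => Ls.isEmpty && Nat.blt a allowed.length && ((allowed.getD a []).all fun x => Nat.blt x A.K) &&
          ((List.range bs.length).all fun i => Nat.beq (A.wact (allowed.getD a []) (bs.getD i 0)) (imgs.getD i 0)) &&
          Nat.beq (A.wact (allowed.getD a []) L.base) c
      | .go t kids' => let u' := u ++ t
          (u'.all fun x => Nat.blt x A.K) &&
          ((List.range bs.length).all fun i => Nat.beq (A.wact u' (bs.getD i 0)) (imgs.getD i 0)) &&
          Nat.beq (A.wact u' L.base) c &&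
          searchOK z fx allowed Ls ms (bs ++ [L.base]) (imgs ++ [c]) u' kids'.list
      | .bad t b => let u' := u ++ t
          Ls.isEmpty && (u'.all fun x => Nat.blt x A.K) &&
          ((List.range bs.length).all fun i => Nat.beq (A.wact u' (bs.getD i 0)) (imgs.getD i 0)) &&
          Nat.beq (A.wact u' L.base) c && Nat.blt b A.n && !Nat.beq (A.wact u' (A.wact z b)) (A.wact z (A.wact u' b)))
      (targets A z fx imgs L u m) kids
  | _, _, _, _, _, _ => false

variable {A} {rels : List PowRel} [NeZero A.n] {h : A.Valid rels} {Ls : List WLevel}

theorem wit_spec {z : List ℕ} (hz : ∀ a ∈ z, a < A.K) :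
    ∀ (e : ℕ) (c : Fin A.n), (h.rho (el A rels z ^ e) c : ℕ) = wit A z e c
  | 0, c => by simp [wit]
  | e + 1, c => by
    rw [pow_succ', map_mul, Equiv.Perm.mul_apply, rho_el h hz, wit_spec hz e c]
    rfl

theorem search_spec (hE : Exact h Ls) {z fx : List ℕ} {allowed : List (List ℕ)} {ms : List Mode}
    (hm : modesOK A z fx Ls ms = true) {g : Pres A.k rels} (hg : g * el A rels z = el A rels z * g) :
    ∀ (rest : List WLevel) (mr : List Mode) (l : ℕ), Ls.drop l = rest → ms.drop l = mr →
    ∀ (u : List ℕ) (imgs : List ℕ) (kids : List Branch),
      imgs = ((Ls.take l).map fun L => (h.rho g (pnt A.n L.base)).1) →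
      (∀ a ∈ u, a < A.K) → (∀ L ∈ Ls.take l, A.wact u L.base = (h.rho g (pnt A.n L.base)).1) →
      searchOK A z fx allowed rest mr ((Ls.take l).map WLevel.base) imgs u kids = true →
      ∃ a ∈ allowed, g = el A rels a := by
  simp only [modesOK, Bool.and_eq_true, List.all_eq_true, List.mem_range] at hm
  obtain ⟨hz', hmode⟩ := hm
  have hz : ∀ a ∈ z, a < A.K := fun a ha => Nat.le_of_ble_eq_true (hz' a ha)
  have hbase : ∀ L ∈ Ls, L.base < A.n := chain_base_lt Ls [] hE.chain
  intro rest
  induction rest with
  | nil => intro mr l _ _ u imgs kids _ _ _ hok; simp [searchOK] at hok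
  | cons L rest ihr =>
    intro mr l hrest hmr u imgs kids himgs hu hagree hok
    cases mr with
    | nil => simp [searchOK] at hok
    | cons m mr =>
      have hl : l < Ls.length := by
        by_contra hc
        rw [List.drop_eq_nil_of_le (by omega)] at hrest
        simp at hrest
      have hL : Ls[l] = L := by
        have := List.drop_eq_getElem_cons hl
        rw [hrest] at this
        exact (List.cons.inj this).1.symm
      have hlm : l < ms.length := by
        by_contra hc
        rw [List.drop_eq_nil_of_le (by omega)] at hmr
        simp at hmr
      have hm' : ms.getD l .free = m := by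
        have := List.drop_eq_getElem_cons hlm
        rw [hmr] at this
        rw [List.getD_eq_getElem _ _ hlm]
        exact (List.cons.inj this).1.symm
      set c := (h.rho g (pnt A.n L.base)).1 with hc
      have hmem : c ∈ targets A z fx imgs L u m := by
        have h1 := hmode l hlm
        rw [hm'] at h1
        have hb : (Ls.map WLevel.base).getD l 0 = L.base := by
          rw [List.getD_eq_getElem _ _ (by rw [List.length_map]; exact hl), List.getElem_map, hL]
        have hLb : L.base < A.n := hL ▸ hbase _ (List.getElem_mem hl)
        cases m with
        | det i e =>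
          simp only [Bool.and_eq_true] at h1
          have hi : i < l := Nat.le_of_ble_eq_true h1.1
          have hi' : i < Ls.length := hi.trans hl
          have he := Nat.eq_of_beq_eq_true h1.2
          rw [hb, List.getD_eq_getElem _ _ (by rw [List.length_map]; exact hi'), List.getElem_map] at he
          simp only [targets, List.mem_singleton]
          rw [himgs, List.getD_eq_getElem _ _ (by rw [List.length_map, List.length_take]; omega), List.getElem_map,
            List.getElem_take, ← wit_spec (h := h) hz, ← Equiv.Perm.mul_apply, ← map_mul,
            ← (Commute.pow_right hg e).eq, map_mul, Equiv.Perm.mul_apply, hc]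
          congr 2
          exact Fin.ext (by rw [pnt_val hLb, wit_spec (h := h) hz, pnt_val (hbase _ (List.getElem_mem hi')), he])
        | fixd =>
          simp only [Bool.and_eq_true, List.all_eq_true, List.mem_range, Bool.or_eq_true, Bool.not_eq_true',
            List.contains_eq_mem, decide_eq_true_eq] at h1
          obtain ⟨hfixb, hlist⟩ := h1
          rw [hb] at hfixb
          simp only [targets]
          refine (hlist c (h.rho g (pnt A.n L.base)).2).resolve_left ?_
          rw [Bool.not_eq_false]
          have : h.rho (el A rels z) (h.rho g (pnt A.n L.base)) = h.rho g (pnt A.n L.base) := by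
            rw [← Equiv.Perm.mul_apply, ← map_mul, ← hg, map_mul, Equiv.Perm.mul_apply]
            exact congrArg (h.rho g) (Fin.ext (by rw [rho_el h hz, pnt_val hLb]; exact Nat.eq_of_beq_eq_true hfixb))
          have e2 := congrArg Fin.val this
          rw [rho_el h hz] at e2
          rw [hc, e2]
          simp
        | free =>
          simp only [targets, List.mem_map, List.mem_range]
          have hex := hE.mem_orbit hl (g := (el A rels u)⁻¹ * g) fun i hi => by
            rw [map_mul, map_inv, Equiv.Perm.mul_apply, Equiv.Perm.inv_eq_iff_eq]
            refine Fin.ext ?_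
            rw [rho_el h hu, pnt_val (hbase _ (List.getElem_mem _))]
            exact (hagree _ (List.mem_take_iff_getElem.2 ⟨i, by omega, rfl⟩)).symm
          rw [hL] at hex
          simp only [WLevel.mem, Bool.and_eq_true] at hex
          refine ⟨_, Nat.le_of_ble_eq_true hex.1, ?_⟩
          rw [Nat.eq_of_beq_eq_true hex.2, ← rho_el h hu, map_mul, map_inv, Equiv.Perm.mul_apply,
            Equiv.Perm.inv_def, Equiv.apply_symm_apply, hc]
      simp only [searchOK, Bool.and_eq_true] at hok
      obtain ⟨B, hch⟩ := zipAll_spec hok.2 c hmem
      have htake : Ls.take (l + 1) = Ls.take l ++ [L] := by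
        rw [List.take_succ_eq_append_getElem hl, hL]
      cases B with
      | out v =>
        simp only [Bool.and_eq_true, Bool.not_eq_true'] at hch
        obtain ⟨⟨hv, huv⟩, hout⟩ := hch
        have hvn : v < A.n := Nat.le_of_ble_eq_true hv
        have hex := hE.mem_orbit hl (g := (el A rels u)⁻¹ * g) fun i hi => by
          rw [map_mul, map_inv, Equiv.Perm.mul_apply, Equiv.Perm.inv_eq_iff_eq]
          refine Fin.ext ?_
          rw [rho_el h hu, pnt_val (hbase _ (List.getElem_mem _))]
          exact (hagree _ (List.mem_take_iff_getElem.2 ⟨i, by omega, rfl⟩)).symm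
        have ev : h.rho ((el A rels u)⁻¹ * g) (pnt A.n Ls[l].base) = pnt A.n v := by
          rw [map_mul, map_inv, Equiv.Perm.mul_apply, Equiv.Perm.inv_eq_iff_eq, hL]
          exact Fin.ext (by rw [rho_el h hu, pnt_val hvn, Nat.eq_of_beq_eq_true huv, hc])
        rw [ev, pnt_val hvn, hL, hout] at hex
        exact absurd hex (by simp)
      | done a =>
        simp only [Bool.and_eq_true, List.all_eq_true, List.mem_range, List.isEmpty_iff] at hch
        obtain ⟨⟨⟨⟨hnil, ha⟩, hlt⟩, hpre⟩, hlast⟩ := hch
        have ha' : a < allowed.length := Nat.le_of_ble_eq_true ha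
        refine ⟨allowed.getD a [], by rw [List.getD_eq_getElem _ _ ha']; exact List.getElem_mem _, ?_⟩
        refine hE.eq_of_base fun M hM => Fin.ext ?_
        have hlt' : ∀ x ∈ allowed.getD a [], x < A.K := fun x hx => Nat.le_of_ble_eq_true (hlt x hx)
        rw [rho_el h hlt', pnt_val (hbase M hM)]
        have hall : Ls = Ls.take l ++ [L] := by
          conv_lhs => rw [← List.take_append_drop l Ls, hrest, hnil]
        rw [hall, List.mem_append, List.mem_singleton] at hM
        rcases hM with hM | rfl
        · obtain ⟨i, hi, rfl⟩ := List.getElem_of_mem hM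
          have h1 := hpre i (by rw [List.length_map]; exact hi)
          rw [List.getD_eq_getElem (l := List.map WLevel.base _) _ (by rw [List.length_map]; exact hi), List.getElem_map, himgs,
            List.getD_eq_getElem (l := List.map _ (Ls.take l)) _ (by rw [List.length_map]; exact hi), List.getElem_map] at h1
          exact (Nat.eq_of_beq_eq_true h1).symm
        · exact (Nat.eq_of_beq_eq_true hlast).symm
      | go t kids' =>
        simp only [Bool.and_eq_true, List.all_eq_true, List.mem_range] at hch
        obtain ⟨⟨⟨hlt, hpre⟩, hlast⟩, hrec⟩ := hch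
        refine ihr mr (l + 1) (by rw [← List.drop_drop, hrest]; rfl) (by rw [← List.drop_drop, hmr]; rfl) (u ++ t)
          (imgs ++ [c]) kids'.list (by rw [htake, List.map_append, himgs]; simp [hc])
          (fun a ha => Nat.le_of_ble_eq_true (hlt a ha)) ?_ ?_
        · intro M hM
          rw [htake, List.mem_append, List.mem_singleton] at hM
          rcases hM with hM | rfl
          · obtain ⟨i, hi, rfl⟩ := List.getElem_of_mem hM
            have h1 := hpre i (by rw [List.length_map]; exact hi)
            rw [List.getD_eq_getElem _ _ (by rw [List.length_map]; exact hi), List.getElem_map, himgs,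
              List.getD_eq_getElem _ _ (by rw [List.length_map]; exact hi), List.getElem_map] at h1
            exact Nat.eq_of_beq_eq_true h1
          · exact Nat.eq_of_beq_eq_true hlast
        · rw [htake, List.map_append]
          exact hrec
      | bad t b =>
        simp only [Bool.and_eq_true, List.all_eq_true, List.mem_range, List.isEmpty_iff, Bool.not_eq_true'] at hch
        obtain ⟨⟨⟨⟨⟨hnil, hlt⟩, hpre⟩, hlast⟩, hbn⟩, hne⟩ := hch
        have hlt' : ∀ x ∈ u ++ t, x < A.K := fun x hx => Nat.le_of_ble_eq_true (hlt x hx)
        have hge : g = el A rels (u ++ t) := by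
          refine hE.eq_of_base fun M hM => Fin.ext ?_
          rw [rho_el h hlt', pnt_val (hbase M hM)]
          have hall : Ls = Ls.take l ++ [L] := by
            conv_lhs => rw [← List.take_append_drop l Ls, hrest, hnil]
          rw [hall, List.mem_append, List.mem_singleton] at hM
          rcases hM with hM | rfl
          · obtain ⟨i, hi, rfl⟩ := List.getElem_of_mem hM
            have h1 := hpre i (by rw [List.length_map]; exact hi)
            rw [List.getD_eq_getElem (l := List.map WLevel.base _) _ (by rw [List.length_map]; exact hi), List.getElem_map, himgs,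
              List.getD_eq_getElem (l := List.map _ (Ls.take l)) _ (by rw [List.length_map]; exact hi), List.getElem_map] at h1
            exact (Nat.eq_of_beq_eq_true h1).symm
          · exact (Nat.eq_of_beq_eq_true hlast).symm
        have hb : b < A.n := Nat.le_of_ble_eq_true hbn
        have e := congrArg (fun v => (h.rho v (pnt A.n b)).1) hg
        simp only [hge, map_mul, Equiv.Perm.mul_apply, rho_el h hlt', rho_el h hz, pnt_val hb] at e
        rw [e] at hne
        simp at hne

/-- Every element commuting with the word is one of the allowed ones. -/
theorem centralizer_mem (hE : Exact h Ls) {z fx : List ℕ} {allowed : List (List ℕ)} {ms : List Mode}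
    {kids : List Branch} (hm : modesOK A z fx Ls ms = true)
    (hok : searchOK A z fx allowed Ls ms [] [] [] kids = true) {g : Pres A.k rels}
    (hg : g * el A rels z = el A rels z * g) : ∃ a ∈ allowed, g = el A rels a :=
  search_spec hE hm hg Ls ms 0 (by simp) (by simp) [] [] kids (by simp) (by simp) (by simp) (by simpa using hok)

/-- Two words are the same element when they agree on the base. -/
noncomputable def sameW (A : Act) (Ls : List WLevel) (a b : List ℕ) : Bool :=
  (a.all fun x => Nat.blt x A.K) && (b.all fun x => Nat.blt x A.K) &&
    Ls.all fun L => Nat.beq (A.wact a L.base) (A.wact b L.base)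

theorem el_eq (hE : Exact h Ls) {a b : List ℕ} (e : sameW A Ls a b = true) : el A rels a = el A rels b := by
  simp only [sameW, Bool.and_eq_true, List.all_eq_true] at e
  refine hE.eq_of_base fun L hL => Fin.ext ?_
  rw [rho_el h (fun x hx => Nat.le_of_ble_eq_true (e.1.1 x hx)),
    rho_el h (fun x hx => Nat.le_of_ble_eq_true (e.1.2 x hx)), pnt_val (chain_base_lt Ls [] hE.chain L hL)]
  exact Nat.eq_of_beq_eq_true (e.2 L hL)

/-- A word is not the identity. -/
noncomputable def movesW (A : Act) (Ls : List WLevel) (a : List ℕ) : Bool :=
  (a.all fun x => Nat.blt x A.K) && Ls.any fun L => !Nat.beq (A.wact a L.base) L.base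

theorem el_ne_one (hE : Exact h Ls) {a : List ℕ} (e : movesW A Ls a = true) : el A rels a ≠ 1 := by
  simp only [movesW, Bool.and_eq_true, List.all_eq_true, List.any_eq_true, Bool.not_eq_true'] at e
  intro h1
  obtain ⟨L, hL, hne⟩ := e.2
  have := congrArg (fun g => (h.rho g (pnt A.n L.base)).1) h1
  simp only [rho_el h (fun x hx => Nat.le_of_ble_eq_true (e.1 x hx)), map_one, Equiv.Perm.one_apply,
    pnt_val (chain_base_lt Ls [] hE.chain L hL)] at this
  rw [this] at hne
  simp at hne

/-- Two words are different elements. -/
noncomputable def diffW (A : Act) (Ls : List WLevel) (a b : List ℕ) : Bool :=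
  (a.all fun x => Nat.blt x A.K) && (b.all fun x => Nat.blt x A.K) &&
    Ls.any fun L => !Nat.beq (A.wact a L.base) (A.wact b L.base)

theorem el_ne (hE : Exact h Ls) {a b : List ℕ} (e : diffW A Ls a b = true) : el A rels a ≠ el A rels b := by
  simp only [diffW, Bool.and_eq_true, List.all_eq_true, List.any_eq_true, Bool.not_eq_true'] at e
  intro h1
  obtain ⟨L, hL, hne⟩ := e.2
  have := congrArg (fun g => (h.rho g (pnt A.n L.base)).1) h1
  simp only [rho_el h (fun x hx => Nat.le_of_ble_eq_true (e.1.1 x hx)),
    rho_el h (fun x hx => Nat.le_of_ble_eq_true (e.1.2 x hx)), pnt_val (chain_base_lt Ls [] hE.chain L hL)] at this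
  rw [this] at hne
  simp at hne

omit [NeZero A.n] in
theorem el_append (a b : List ℕ) : el A rels (a ++ b) = el A rels a * el A rels b := ev_append _ a b

omit [NeZero A.n] in
theorem el_nil : el A rels [] = 1 := by simp [el, ev]

end CfsgLib.Spor.ActCert
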