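import Cfsg.Agent.Lib.Spor.ActCert.Search

/-!
A centralizer search checked slice by slice of its first level.
-/

set_option autoImplicit false

namespace CfsgLib.Spor.ActCert

open CfsgLib.Spor.TC CfsgLib.Spor.PermCert

variable (A : Act)

/-- The check of one branch at a level. -/
noncomputable def branchOK (z fx : List ℕ) (allowed : List (List ℕ)) (L : WLevel) (Ls : List WLevel) (ms : List Mode)
    (bs imgs u : List ℕ) (c : ℕ) (B : Branch) : Bool :=
  match B with
  | .out v => Nat.blt v A.n && Nat.beq (A.wact u v) c && !L.mem v
  | .done a => Ls.isEmpty && Nat.blt a allowed.length && ((allowed.getD a []).all fun x => Nat.blt x A.K) &&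
      ((List.range bs.length).all fun i => Nat.beq (A.wact (allowed.getD a []) (bs.getD i 0)) (imgs.getD i 0)) &&
      Nat.beq (A.wact (allowed.getD a []) L.base) c
  | .go t kids' => let u' := u ++ t
      (u'.all fun x => Nat.blt x A.K) &&
      ((List.range bs.length).all fun i => Nat.beq (A.wact u' (bs.getD i 0)) (imgs.getD i 0)) &&
      Nat.beq (A.wact u' L.base) c &&
      searchOK A z fx allowed Ls ms (bs ++ [L.base]) (imgs ++ [c]) u' kids'.list
  | .bad t b => let u' := u ++ t
      Ls.isEmpty && (u'.all fun x => Nat.blt x A.K) &&
      ((List.range bs.length).all fun i => Nat.beq (A.wact u' (bs.getD i 0)) (imgs.getD i 0)) &&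
      Nat.beq (A.wact u' L.base) c && Nat.blt b A.n && !Nat.beq (A.wact u' (A.wact z b)) (A.wact z (A.wact u' b))

theorem zipAll_congr {α β : Type} {f g : α → β → Bool} (h : ∀ a b, f a b = g a b) :
    ∀ (as : List α) (bs : List β), zipAll f as bs = zipAll g as bs
  | [], [] => rfl
  | [], _ :: _ => rfl
  | _ :: _, [] => rfl
  | a :: as, b :: bs => by simp only [zipAll, h, zipAll_congr h as bs]

theorem zipAll_append {α β : Type} {f : α → β → Bool} : ∀ {as : List α} {bs : List β}, zipAll f as bs = true →
    ∀ {as' : List α} {bs' : List β}, zipAll f as' bs' = true → zipAll f (as ++ as') (bs ++ bs') = true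
  | [], [], _, _, _, h => h
  | [], _ :: _, h, _, _, _ => by simp [zipAll] at h
  | _ :: _, [], h, _, _, _ => by simp [zipAll] at h
  | a :: as, b :: bs, h, as', bs', h' => by
    simp only [zipAll, Bool.and_eq_true] at h
    simp only [List.cons_append, zipAll, Bool.and_eq_true]
    exact ⟨h.1, zipAll_append h.2 h'⟩

theorem zipAll_length {α β : Type} {f : α → β → Bool} : ∀ {as : List α} {bs : List β}, zipAll f as bs = true →
    as.length = bs.length
  | [], [], _ => rfl
  | [], _ :: _, h => by simp [zipAll] at h
  | _ :: _, [], h => by simp [zipAll] at h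
  | a :: as, b :: bs, h => by
    simp only [zipAll, Bool.and_eq_true] at h
    simp [zipAll_length h.2]

/-- A slice of the first level: the images at some of the orbit points, numbered from `a`. -/
noncomputable def sliceOK (z fx : List ℕ) (allowed : List (List ℕ)) (L : WLevel) (Ls : List WLevel) (ms : List Mode)
    (a m : ℕ) (kids : List Branch) : Bool :=
  zipAll (branchOK A z fx allowed L Ls ms [] [] [])
    ((List.range m).map fun j => A.wact [] (L.pt (a + j))) kids

theorem slice_append {z fx : List ℕ} {allowed : List (List ℕ)} {L : WLevel} {Ls : List WLevel} {ms : List Mode}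
    {a m m' : ℕ} {k k' : List Branch} (h : sliceOK A z fx allowed L Ls ms a m k = true)
    (h' : sliceOK A z fx allowed L Ls ms (a + m) m' k' = true) :
    sliceOK A z fx allowed L Ls ms a (m + m') (k ++ k') = true := by
  unfold sliceOK at *
  rw [List.range_add, List.map_append, List.map_map]
  refine zipAll_append h ?_
  simpa only [Function.comp_def, Nat.add_assoc] using h'

theorem searchOK_of_slices {z fx : List ℕ} {allowed : List (List ℕ)} {L : WLevel} {Ls : List WLevel} {ms : List Mode}
    {kids : List Branch} (h : sliceOK A z fx allowed L Ls ms 0 L.size kids = true) :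
    searchOK A z fx allowed (L :: Ls) (Mode.free :: ms) [] [] [] kids = true := by
  unfold sliceOK at h
  simp only [Nat.zero_add] at h
  simp only [searchOK, targets, Bool.and_eq_true, beq_iff_eq]
  refine ⟨zipAll_length h, ?_⟩
  rw [← h]
  refine zipAll_congr (fun c B => ?_) _ _
  cases B <;> rfl

end CfsgLib.Spor.ActCert
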